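import Mathlib
import Cfsg.Agent.H19.Th.E.Y0
import Cfsg.Agent.H19.Th.N

set_option autoImplicit false
set_option maxRecDepth 100000
set_option Elab.async false
set_option linter.all false

namespace H19.Th.E
open H29

noncomputable def tI : ℕ → Bool := tInv K.C.mul K.C.one
noncomputable def tZ : ℕ → Bool := fun x => allL xsQ fun y => Nat.beq (K.C.mul x y) (K.C.mul y x)
noncomputable def fA : ℕ → ℕ := fun n => evC K.C.mul K.C.one K.lc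
  (cjW4 (ivOf Th.ivl) ([0] :: [[11], [11, 13, 7, 12, 4, 2, 11, 2, 4, 12, 8, 13, 11]]) (0 :: [2, 4, 7, 8, 11, 12, 13]) 3 n)
noncomputable def fB : ℕ → ℕ := fun n => evC K.C.mul K.C.one K.lc
  (cjW4 (ivOf Th.ivl) ([4, 13] :: [[4], [12], [4, 12], [12, 13], [4, 12, 13], [4, 11, 12, 11, 4, 11, 12, 11], [4, 11, 4, 11, 13, 11, 4, 11, 13], [4, 11, 4, 11, 12, 13, 11, 4, 11, 12, 13], [11, 4, 11, 12, 11, 4, 11, 7, 4, 12, 8, 11, 4, 11, 12, 11, 4, 11], [11, 4, 11, 12, 11, 4, 11, 7, 12, 8, 11, 4, 11, 12, 11, 4, 11], [13, 12, 7, 12, 11, 8, 0, 4, 12, 13, 0, 7, 11, 12, 8, 12, 13], [13, 12, 7, 12, 11, 8, 0, 12, 13, 0, 7, 11, 12, 8, 12, 13], [12, 11, 13, 8, 12, 4, 11, 4, 11, 4, 12, 7, 13, 11, 12], [12, 11, 13, 7, 12, 11, 4, 12, 11, 12, 8, 13, 11, 12], [11, 12, 7, 12, 11, 8, 4, 12, 7, 11, 12, 8, 12, 11]]) (0 :: [2, 4, 7, 8, 11, 12, 13]) 3 n)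

end H19.Th.E
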